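import Mathlib
import Groth.Agent.Lib.Helper1.RG
import Groth.Agent.Lib.Lead.PB2

/-!
# Projectivity of a module is local for a finite cover by basic opens (helper2)

(no finiteness hypotheses on the module; uses faithfully flat descent of projectivity)
-/

set_option autoImplicit false
set_option backward.isDefEq.respectTransparency.types false
set_option synthInstance.maxHeartbeats 400000
set_option maxHeartbeats 4000000
set_option linter.style.haveILetI false
set_option linter.unusedSectionVars false
set_option linter.unusedVariables false

universe u
open TensorProduct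

namespace Groth.Agent.Helper2.LocProj

section Pi
variable {ι : Type*} [DecidableEq ι] (S : ι → Type*) [∀ i, CommRing (S i)]
  (N : ι → Type*) [∀ i, AddCommGroup (N i)] [∀ i, Module (S i) (N i)]

/-- embedding of finitely supported functions on a factor into those on the product -/
noncomputable def emb (j : ι) : (N j →₀ S j) →+ ((Π i, N i) →₀ (Π i, S i)) :=
  Finsupp.liftAddHom
    (fun m => (Finsupp.singleAddHom (Pi.single j m)).comp (AddMonoidHom.single S j))

theorem emb_single (j : ι) (m : N j) (a : S j) :
    emb S N j (Finsupp.single m a) = Finsupp.single (Pi.single j m) (Pi.single j a) := by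
  simp [emb]

theorem emb_smul (j : ι) (r : Π i, S i) (x : N j →₀ S j) :
    emb S N j (r j • x) = r • emb S N j x := by
  induction x using Finsupp.induction_linear with
  | zero => simp
  | add x y hx hy => rw [smul_add, map_add, map_add, smul_add, hx, hy]
  | single m a =>
    rw [Finsupp.smul_single, emb_single, emb_single, Finsupp.smul_single]
    congr 1
    ext i
    by_cases h : i = j
    · subst h
      simp
    · simp [Pi.single_eq_of_ne h]

theorem lc_emb (j : ι) (x : N j →₀ S j) :
    Finsupp.linearCombination (Π i, S i) id (emb S N j x) =
      Pi.single j (Finsupp.linearCombination (S j) id x) := by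
  induction x using Finsupp.induction_linear with
  | zero => simp
  | add x y hx hy => rw [map_add, map_add, map_add, hx, hy, Pi.single_add]
  | single m a =>
    rw [emb_single, Finsupp.linearCombination_single, Finsupp.linearCombination_single]
    ext i
    by_cases h : i = j
    · subst h
      simp
    · simp [Pi.single_eq_of_ne h]

theorem projective_pi [Finite ι] [∀ i, Module.Projective (S i) (N i)] :
    Module.Projective (Π i, S i) (Π i, N i) := by
  classical
  cases nonempty_fintype ι
  choose t ht using fun i => (Module.projective_def' (R := S i) (P := N i)).mp inferInstance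
  refine Module.projective_def'.mpr ⟨
    { toFun := fun n => ∑ j, emb S N j (t j (n j))
      map_add' := fun x y => by simp [Finset.sum_add_distrib]
      map_smul' := fun r n => by
        simp only [RingHom.id_apply, Pi.smul_apply', Finset.smul_sum]
        refine Finset.sum_congr rfl fun j _ => ?_
        rw [(t j).map_smul, emb_smul] }, ?_⟩
  ext n : 1
  have h1 : ∀ j, Finsupp.linearCombination (S j) id (t j (n j)) = n j :=
    fun j => congr($(ht j) (n j))
  simp only [LinearMap.comp_apply, LinearMap.coe_mk, AddHom.coe_mk, map_sum, lc_emb,
    LinearMap.id_apply, h1]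
  exact Finset.univ_sum_single n

end Pi

section Tensor

variable {A : Type u} [CommRing A] {ι : Type u} [Finite ι] (B : ι → Type u)
  [∀ i, CommRing (B i)] [∀ i, Algebra A (B i)] (M : Type u) [AddCommGroup M] [Module A M]

theorem projective_pi_tensor (h : ∀ i, Module.Projective (B i) (B i ⊗[A] M)) :
    Module.Projective (Π i, B i) ((Π i, B i) ⊗[A] M) := by
  classical
  cases nonempty_fintype ι
  haveI := projective_pi B (fun i => B i ⊗[A] M)
  let e0 : ((Π i, B i) ⊗[A] M) ≃ₗ[A] (Π i, B i ⊗[A] M) := TensorProduct.piLeft A M B
  have he0 : ∀ (b : Π i, B i) (m : M), e0 (b ⊗ₜ m) = fun i => b i ⊗ₜ m := by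
    intro b m
    simp only [e0, TensorProduct.piLeft, LinearEquiv.trans_apply, TensorProduct.comm_tmul,
      TensorProduct.piRight_apply, TensorProduct.piRightHom_tmul]
    ext i
    simp
  let e : ((Π i, B i) ⊗[A] M) ≃ₗ[Π i, B i] (Π i, B i ⊗[A] M) :=
    { e0.toAddEquiv with
      map_smul' := fun r x => by
        change e0 (r • x) = r • e0 x
        induction x using TensorProduct.induction_on with
        | zero => simp
        | tmul b m =>
          rw [TensorProduct.smul_tmul', he0, he0]
          ext i
          simp [TensorProduct.smul_tmul']
        | add x y hx hy => rw [smul_add, map_add, map_add, smul_add, hx, hy] }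
  exact Module.Projective.of_equiv e.symm

end Tensor

/-- **Projectivity is local on a finite cover by basic opens** (no finiteness on the module). -/
theorem projective_of_span_eq_top {A : Type u} [CommRing A] (M : Type u) [AddCommGroup M]
    [Module A M] (t : Finset A) (ht : Ideal.span (t : Set A) = ⊤)
    (h : ∀ f ∈ t, ∃ (B : Type u) (_ : CommRing B) (_ : Algebra A B),
      IsLocalization.Away f B ∧ Module.Projective B (B ⊗[A] M)) :
    Module.Projective A M := by
  classical
  have h' : ∀ f : t, ∃ (B : Type u) (_ : CommRing B) (_ : Algebra A B),
      IsLocalization.Away f.1 B ∧ Module.Projective B (B ⊗[A] M) := fun f => h f.1 f.2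
  choose B iR iA hloc hproj using h'
  letI : ∀ f : t, CommRing (B f) := iR
  letI : ∀ f : t, Algebra A (B f) := iA
  have hFF : Groth.Agent.Lead.PB.IsFFFamily A B :=
    { flat := fun f => by
        haveI := hloc f
        exact IsLocalization.flat (B f) (Submonoid.powers f.1)
      surj := fun p => by
        obtain ⟨f, hf, hfp⟩ : ∃ f ∈ t, f ∉ p.asIdeal := by
          by_contra hcon
          push Not at hcon
          have h1 : Ideal.span (t : Set A) ≤ p.asIdeal := Ideal.span_le.mpr (fun f hf => hcon f hf)
          rw [ht] at h1
          exact p.2.ne_top (top_le_iff.mp h1)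
        haveI := hloc ⟨f, hf⟩
        have hdisj : Disjoint (Submonoid.powers f : Set A) p.asIdeal :=
          (Ideal.disjoint_powers_iff_notMem_of_isPrime f).mpr hfp
        refine ⟨⟨f, hf⟩, ⟨Ideal.map (algebraMap A (B ⟨f, hf⟩)) p.asIdeal,
          IsLocalization.isPrime_of_isPrime_disjoint (Submonoid.powers f) _ _ p.2 hdisj⟩, ?_⟩
        ext1
        exact IsLocalization.under_map_of_isPrime_disjoint (Submonoid.powers f) _ p.2 hdisj }
  haveI := hFF.faithfullyFlat_pi
  haveI : Module.Projective (Π f, B f) ((Π f, B f) ⊗[A] M) := projective_pi_tensor B M hproj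
  exact Groth.Agent.Helper1.RG.S0585 A (Π f, B f) M

end Groth.Agent.Helper2.LocProj
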