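import Mathlib
import Groth.Prelude.Def_Coh
import Groth.Agent.Lib.Lead.SD2
import Groth.Agent.Lib.Helper2.LocProj.Alg

/-!
# Local projectivity of a quasi-coherent module can be checked on an affine cover (helper2)
-/

set_option autoImplicit false
set_option backward.isDefEq.respectTransparency.types false
set_option synthInstance.maxHeartbeats 400000
set_option maxHeartbeats 4000000
set_option linter.style.haveILetI false
set_option linter.unusedSectionVars false
set_option linter.unusedVariables false

universe u
open CategoryTheory AlgebraicGeometry TopologicalSpace TensorProduct Opposite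

namespace Groth.Agent.Helper2.LocProj

open Groth.Agent.Lead.SD Scheme.Modules

variable {X : Scheme.{u}} (F : X.Modules) [F.IsQuasicoherent]

attribute [local instance] basicOpenModule

/-- sections over a basic open of an affine open with projective sections are projective -/
theorem projective_basicOpen {U : X.Opens} (hU : IsAffineOpen U) (g : Γ(X, U))
    (h : Module.Projective Γ(X, U) Γ(F, U)) :
    Module.Projective Γ(X, X.basicOpen g) Γ(F, X.basicOpen g) := by
  haveI := hU.isLocalization_basicOpen g
  haveI := isLocalizedModule_res F hU g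
  exact Module.projective_of_isLocalizedModule (Submonoid.powers g) (resₗ F g)

theorem tensor_projective_basicOpen {V : X.Opens} (hV : IsAffineOpen V) (f : Γ(X, V))
    (h : Module.Projective Γ(X, X.basicOpen f) Γ(F, X.basicOpen f)) :
    Module.Projective Γ(X, X.basicOpen f) (Γ(X, X.basicOpen f) ⊗[Γ(X, V)] Γ(F, V)) := by
  have hbc := isBaseChange_res F hV f
  exact Module.Projective.of_equiv hbc.equiv.symm

/-- **Projectivity of sections on an affine cover implies projectivity on all affine opens.** -/
theorem main {I : Type u} (U : I → X.Opens) (hcov : (⨆ i, U i) = ⊤)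
    (hU : ∀ i, IsAffineOpen (U i)) (hproj : ∀ i, Module.Projective Γ(X, U i) Γ(F, U i))
    (V : X.Opens) (hV : IsAffineOpen V) : Module.Projective Γ(X, V) Γ(F, V) := by
  let s : Set Γ(X, V) := {f | Module.Projective Γ(X, X.basicOpen f) Γ(F, X.basicOpen f)}
  have hs : Ideal.span s = ⊤ := by
    rw [← hV.self_le_iSup_basicOpen_iff]
    intro x hx
    have hx' : x ∈ (⨆ i, U i) := by rw [hcov]; trivial
    obtain ⟨i, hi⟩ := Opens.mem_iSup.mp hx'
    obtain ⟨f, g, hfg, hxf⟩ := exists_basicOpen_le_affine_inter hV (hU i) x ⟨hx, hi⟩
    have hg := projective_basicOpen F (hU i) g (hproj i)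
    have key : ∀ W : X.Opens, X.basicOpen g = W → Module.Projective Γ(X, W) Γ(F, W) := by
      rintro _ rfl
      exact hg
    exact Opens.mem_iSup.mpr ⟨⟨f, key _ hfg.symm⟩, hxf⟩
  obtain ⟨t, hts, ht⟩ := (Ideal.span_eq_top_iff_finite s).mp hs
  exact projective_of_span_eq_top Γ(F, V) t ht fun f hf =>
    ⟨Γ(X, X.basicOpen f), inferInstance, inferInstance, hV.isLocalization_basicOpen f,
      tensor_projective_basicOpen F hV f (hts hf)⟩

end Groth.Agent.Helper2.LocProj
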