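import Mathlib
import Groth.Prelude.Def_Coh
import Groth.Agent.Lib.Lead.BCU3
import Groth.Agent.Lib.Lead.PBQc
import Groth.Agent.Lib.Helper2.LocProj.Main

/-!
# The pullback of a locally projective quasi-coherent module is locally projective (helper2)
-/

set_option autoImplicit false
set_option backward.isDefEq.respectTransparency.types false
set_option synthInstance.maxHeartbeats 400000
set_option maxHeartbeats 4000000
set_option linter.style.haveILetI false
set_option linter.unusedSectionVars false
set_option linter.unusedVariables false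

universe u
open CategoryTheory AlgebraicGeometry TopologicalSpace TensorProduct Opposite

namespace Groth.Agent.Helper2.LocProj

open Scheme.Modules

variable {X Y : Scheme.{u}} (f : X ⟶ Y) (G : Y.Modules) [G.IsQuasicoherent]

theorem projective_pullback_sections {V : Y.Opens} {U : X.Opens} (hV : IsAffineOpen V)
    (hU : IsAffineOpen U) (e : U ≤ f ⁻¹ᵁ V) (hG : Module.Projective Γ(Y, V) Γ(G, V)) :
    Module.Projective Γ(X, U) Γ((pullback f).obj G, U) := by
  have h := Groth.Agent.Lead.BCU.isBC_unitRes f G hV hU e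
  letI := (f.appLE V U e).hom.toAlgebra
  letI : Module Γ(Y, V) Γ((pullback f).obj G, U) := Module.compHom _ (f.appLE V U e).hom
  haveI : IsScalarTower Γ(Y, V) Γ(X, U) Γ((pullback f).obj G, U) := ⟨fun a a' n => by
    change ((f.appLE V U e).hom a * a') • n = (f.appLE V U e).hom a • a' • n
    exact mul_smul _ _ _⟩
  obtain ⟨l', -, hbc⟩ := h
  exact Module.Projective.of_equiv hbc.equiv

theorem pullback_main
    (hG : ∀ V : Y.Opens, IsAffineOpen V → Module.Projective Γ(Y, V) Γ(G, V))
    (U : X.Opens) (hU : IsAffineOpen U) :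
    Module.Projective Γ(X, U) Γ((pullback f).obj G, U) := by
  haveI : ((pullback f).obj G).IsQuasicoherent :=
    Groth.Agent.Lead.PB.isQuasicoherent_pullback _ _
  let I : Type u :=
    {p : X.Opens × Y.Opens // IsAffineOpen p.1 ∧ IsAffineOpen p.2 ∧ p.1 ≤ f ⁻¹ᵁ p.2}
  refine main ((pullback f).obj G) (I := I) (fun p => p.1.1) ?_ (fun p => p.2.1)
    (fun p => projective_pullback_sections f G p.2.2.1 p.2.1 p.2.2.2 (hG _ p.2.2.1)) U hU
  rw [eq_top_iff]
  intro x _
  obtain ⟨V, hV, hxV⟩ : ∃ V : Y.Opens, IsAffineOpen V ∧ f x ∈ V := by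
    obtain ⟨V, hV, hxV, -⟩ :=
      exists_isAffineOpen_mem_and_subset (x := f x) (U := ⊤) trivial
    exact ⟨V, hV, hxV⟩
  obtain ⟨U', hU', hxU', hle⟩ :=
    exists_isAffineOpen_mem_and_subset (x := x) (U := f ⁻¹ᵁ V) hxV
  exact Opens.mem_iSup.mpr ⟨⟨(U', V), hU', hV, hle⟩, hxU'⟩

end Groth.Agent.Helper2.LocProj
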